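import Groth.Agent.Lib.ParComplex.Pivot
import Mathlib.Algebra.BigOperators.Fin
import Mathlib.GroupTheory.Coset.Defs
import Mathlib.Algebra.Ring.Parity
import Mathlib.Tactic.LinearCombination

/-!
Exactness of the complex of parabolic permutation modules: a basis adapted to all the parabolic
subgroups, and exactness of the simplicial complexes of its elements.
-/

set_option autoImplicit false

namespace Groth.Agent.Lib.ParComplex.Basic

open W4c3dlvarstrsh Groth.Agent.Lib.ParComplex.Pivot

variable {R : Type*} [CommRing R] {r : ℕ}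

theorem sgn_sq (T : Finset (Fin r)) (a : Fin r) : (sgn T a : R) * (sgn T a : R) = 1 := by
  rw [← Int.cast_mul]
  unfold sgn
  rw [← mul_pow]
  simp

theorem sgn_swap {T : Finset (Fin r)} {a b : Fin r} (hab : a ≠ b) (ha : a ∉ T) (hb : b ∉ T) :
    sgn (insert b T) a * sgn (insert a T) b = -(sgn T a * sgn T b) := by
  wlog hlt : a < b generalizing a b
  · rw [mul_comm, mul_comm (sgn T a)]
    exact this hab.symm hb ha (lt_of_le_of_ne (not_lt.mp hlt) hab.symm)
  have h1 : (insert b T).filter (fun t => t < a) = T.filter (fun t => t < a) := by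
    rw [Finset.filter_insert, if_neg hlt.not_gt]
  have h2 : (insert a T).filter (fun t => t < b) = insert a (T.filter fun t => t < b) := by
    rw [Finset.filter_insert, if_pos hlt]
  have h3 : a ∉ T.filter fun t => t < b := fun h => ha (Finset.mem_filter.mp h).1
  unfold sgn
  rw [h1, h2, Finset.card_insert_of_notMem h3, pow_succ (-1 : ℤ) (_ + 1)]
  ring

/-- The simplicial complex of the subsets of a set is exact in positive levels. -/
theorem simplex_exact (c : ℕ) (D : Finset (Fin r)) (a : Finset (Fin r) → R)
    (hsupp : ∀ T, T.card = c + 1 → ¬ T ⊆ D → a T = 0)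
    (hd : ∀ T, T.card = c →
      ∑ i : Fin r, (if i ∉ T then (sgn T i : R) * a (insert i T) else 0) = 0) :
    ∃ b : Finset (Fin r) → R, (∀ S, S.card = c + 2 → ¬ S ⊆ D → b S = 0) ∧
      ∀ T, T.card = c + 1 →
        ∑ i : Fin r, (if i ∉ T then (sgn T i : R) * b (insert i T) else 0) = a T := by
  classical
  rcases D.eq_empty_or_nonempty with rfl | ⟨v, hv⟩
  · refine ⟨fun _ => 0, fun _ _ _ => rfl, fun T hT => ?_⟩
    rw [hsupp T hT fun h => by simp [Finset.subset_empty.mp h] at hT]
    simp
  refine ⟨fun S => if v ∈ S then (sgn (S.erase v) v : R) * a (S.erase v) else 0,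
    fun S hS hSD => ?_, fun T hT => ?_⟩
  · simp only
    split_ifs with h
    · rw [hsupp (S.erase v) (by rw [Finset.card_erase_of_mem h, hS]; omega) fun hsub => hSD fun x hx => ?_,
        mul_zero]
      by_cases hxv : x = v
      · exact hxv ▸ hv
      · exact hsub (Finset.mem_erase.mpr ⟨hxv, hx⟩)
    · rfl
  · by_cases hvT : v ∈ T
    · have hvT' : v ∉ T.erase v := Finset.notMem_erase v T
      have h0 := hd (T.erase v) (by rw [Finset.card_erase_of_mem hvT, hT]; omega)
      rw [← Finset.add_sum_erase _ _ (Finset.mem_univ v), if_pos hvT', Finset.insert_erase hvT] at h0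
      have key : ∀ i ∈ Finset.univ.erase v,
          (if i ∉ T then (sgn T i : R) * (if v ∈ insert i T then
              (sgn ((insert i T).erase v) v : R) * a ((insert i T).erase v) else 0) else 0) =
            -(sgn (T.erase v) v : R) *
              (if i ∉ T.erase v then (sgn (T.erase v) i : R) * a (insert i (T.erase v)) else 0) := by
        intro i hi
        have hne : i ≠ v := (Finset.mem_erase.mp hi).1
        by_cases hiT : i ∈ T
        · simp [hiT, hne]
        · have hi' : i ∉ T.erase v := fun h => hiT (Finset.mem_of_mem_erase h)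
          rw [if_pos hiT, if_pos (Finset.mem_insert_of_mem hvT), if_pos hi',
            Finset.erase_insert_of_ne hne]
          have hs : (sgn T i : R) * (sgn (insert i (T.erase v)) v : R) =
              -((sgn (T.erase v) v : R) * (sgn (T.erase v) i : R)) := by
            have := sgn_swap hne hi' hvT'
            rw [Finset.insert_erase hvT] at this
            rw [← Int.cast_mul, this]
            push_cast
            ring
          rw [← mul_assoc, hs]
          ring
      rw [← Finset.add_sum_erase _ _ (Finset.mem_univ v), if_neg (not_not.mpr hvT), zero_add,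
        Finset.sum_congr rfl key, ← Finset.mul_sum]
      linear_combination (-(sgn (T.erase v) v : R)) * h0 + a T * sgn_sq (R := R) (T.erase v) v
    · rw [Finset.sum_eq_single v]
      · simp only [if_pos hvT, if_pos (Finset.mem_insert_self v T), Finset.erase_insert hvT]
        rw [← mul_assoc, sgn_sq, one_mul]
      · intro i _ hiv
        have h2 : v ∉ insert i T := by simp [hvT, Ne.symm hiv]
        simp [h2]
      · intro h; exact absurd (Finset.mem_univ v) h

section Adapted

variable {F : Type*} [Field F] [Fintype F] {m : ℕ}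

/-- The cosets of the Borel subgroup. -/
abbrev Om (F : Type*) [Field F] (m : ℕ) : Type _ :=
  GL (Fin (m + 1)) F ⧸ parabolic F (∅ : Finset (Fin m))

/-- A reduced representative of a coset. -/
noncomputable def rep (x : Om F m) : GL (Fin (m + 1)) F :=
  x.out * (exists_reduced x.out).choose

theorem rep_reduced (x : Om F m) : Reduced (rep x) :=
  (exists_reduced x.out).choose_spec.2

theorem rep_mk (x : Om F m) : ((rep x : GL (Fin (m + 1)) F) : Om F m) = x := by
  conv_rhs => rw [← QuotientGroup.out_eq' x]
  refine QuotientGroup.eq.mpr ?_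
  rw [rep, mul_inv_rev, inv_mul_cancel_right]
  exact inv_mem (exists_reduced x.out).choose_spec.1

variable (ω : Fin r ↪ Fin m)

/-- The letters along which a coset is sorted. -/
noncomputable def letters (x : Om F m) : Finset (Fin r) := by
  classical exact Finset.univ.filter fun a => W (rep x) (ω a).castSucc < W (rep x) (ω a).succ

theorem sorted_letters (x : Om F m) : Sorted ((letters ω x).map ω) (rep x) := by
  intro k hk
  obtain ⟨a, ha, rfl⟩ := Finset.mem_map.mp hk
  simpa [letters] using ha

theorem subset_letters_iff (x : Om F m) (T : Finset (Fin r)) :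
    T ⊆ letters ω x ↔ Sorted (T.map ω) (rep x) := by
  constructor
  · intro h k hk
    exact sorted_letters ω x k (Finset.map_subset_map.mpr h hk)
  · intro h a ha
    simpa [letters] using h (ω a) (Finset.mem_map_of_mem ω ha)

/-- The element of the adapted basis attached to a coset. -/
noncomputable def ev (R : Type*) [CommRing R] (x : Om F m) : GL (Fin (m + 1)) F → R := fun g => by
  classical exact if (rep x)⁻¹ * g ∈ parabolic F ((letters ω x).map ω) then 1 else 0

theorem ev_invariant (x : Om F m) {T : Finset (Fin r)} (hT : T ⊆ letters ω x)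
    (g p : GL (Fin (m + 1)) F) (hp : p ∈ parabolic F (T.map ω)) :
    ev ω R x (g * p) = ev ω R x g := by
  classical
  have hp' := parabolic_mono (Finset.map_subset_map.mpr hT) hp
  unfold ev
  rw [← mul_assoc]
  simp only [Subgroup.mul_mem_cancel_right _ hp']

theorem ev_self (x : Om F m) : ev ω R x (rep x) = 1 := by
  classical
  simp [ev, one_mem]

theorem lex_of_ev_ne {x y : Om F m} (h : ev ω R x (rep y) ≠ 0) (hne : y ≠ x) :
    toLex (W (rep x)) < toLex (W (rep y)) := by
  classical
  have hp : (rep x)⁻¹ * rep y ∈ parabolic F ((letters ω x).map ω) := by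
    by_contra h'
    exact h (by simp [ev, h'])
  have hmul : rep x * ((rep x)⁻¹ * rep y) = rep y := mul_inv_cancel_left _ _
  have hW : W (rep y) ≠ W (rep x) := by
    intro hW
    refine hne ?_
    rw [← rep_mk x, ← rep_mk y]
    refine (QuotientGroup.eq.mpr ?_).symm
    refine mem_borel_of_sorted (rep_reduced x) _ (by rw [hmul]; exact rep_reduced y) hp
      (sorted_letters ω x) ?_
    rw [hmul]
    intro k hk
    rw [hW]
    exact sorted_letters ω x k hk
  have := lex_lt (rep_reduced x) ((rep x)⁻¹ * rep y) (by rw [hmul]; exact rep_reduced y) hp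
    (sorted_letters ω x) (by rwa [hmul])
  rwa [hmul] at this

theorem linearIndependent_ev [Fintype (Om F m)] (a : Om F m → R)
    (h : ∀ g, ∑ x, a x * ev ω R x g = 0) : ∀ x, a x = 0 := by
  classical
  by_contra hh
  push Not at hh
  obtain ⟨x₀, hx₀⟩ := hh
  obtain ⟨x, hx, hmin⟩ := (Finset.univ.filter fun x => a x ≠ 0).exists_min_image
    (fun x => toLex (W (rep x))) ⟨x₀, by simpa using hx₀⟩
  simp only [Finset.mem_filter, Finset.mem_univ, true_and] at hx hmin
  have h0 := h (rep x)
  rw [Finset.sum_eq_single x, ev_self, mul_one] at h0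
  · exact hx h0
  · intro y _ hy
    by_contra hne
    exact absurd (hmin y (left_ne_zero_of_mul hne))
      (not_le.mpr (lex_of_ev_ne ω (right_ne_zero_of_mul hne) (Ne.symm hy)))
  · intro h'; exact absurd (Finset.mem_univ x) h'

theorem exists_coeff [Fintype (Om F m)] (T : Finset (Fin r)) (f : GL (Fin (m + 1)) F → R)
    (hf : ∀ g p, p ∈ parabolic F (T.map ω) → f (g * p) = f g) :
    ∃ a : Om F m → R, (∀ x, ¬ T ⊆ letters ω x → a x = 0) ∧ ∀ g, f g = ∑ x, a x * ev ω R x g := by
  classical
  let S := Finset.univ.filter fun x : Om F m => T ⊆ letters ω x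
  suffices H : ∀ s : Finset (Om F m),
      (∀ x ∈ s, ∀ y ∈ S, toLex (W (rep x)) < toLex (W (rep y)) → y ∈ s) →
      ∀ f : GL (Fin (m + 1)) F → R, (∀ g p, p ∈ parabolic F (T.map ω) → f (g * p) = f g) →
      (∀ x ∈ S, x ∉ s → f (rep x) = 0) → s ⊆ S →
      ∃ a : Om F m → R, (∀ x, ¬ T ⊆ letters ω x → a x = 0) ∧
        ∀ g, f g = ∑ x, a x * ev ω R x g from
    H S (fun _ _ _ hy _ => hy) f hf (fun x hx hx' => absurd hx hx') Finset.Subset.rfl
  intro s
  refine Finset.induction_on_min_value (fun x : Om F m => toLex (W (rep x))) s ?_ ?_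
  · intro _ f hf hzero _
    refine ⟨0, fun _ _ => rfl, fun g => ?_⟩
    obtain ⟨p, hp, hred, hs⟩ := exists_sorted g (T.map ω)
    let x : Om F m := ((g * p : GL (Fin (m + 1)) F) : Om F m)
    have hq : (g * p)⁻¹ * rep x ∈ parabolic F (∅ : Finset (Fin m)) :=
      QuotientGroup.eq.mp (rep_mk x).symm
    have hsx : Sorted (T.map ω) (rep x) := by
      have e : g * p * ((g * p)⁻¹ * rep x) = rep x := mul_inv_cancel_left _ _
      have hW : W (g * p * ((g * p)⁻¹ * rep x)) = W (g * p) :=
        W_eq_of_sorted hred _ (by rw [e]; exact rep_reduced x) hq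
          (fun k hk => absurd hk (Finset.notMem_empty k))
          (fun k hk => absurd hk (Finset.notMem_empty k))
      rw [e] at hW
      intro k hk
      rw [hW]
      exact hs k hk
    have h1 := hzero x (Finset.mem_filter.mpr ⟨Finset.mem_univ _, (subset_letters_iff ω x T).mpr hsx⟩)
      (Finset.notMem_empty x)
    rw [← mul_inv_cancel_left (g * p) (rep x), hf _ _ (parabolic_mono (Finset.empty_subset _) hq),
      hf _ _ hp] at h1
    simp [h1]
  · intro a s has hmin ih hup f hf hzero hsub
    have haS : a ∈ S := hsub (Finset.mem_insert_self a s)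
    have haT : T ⊆ letters ω a := (Finset.mem_filter.mp haS).2
    let f' : GL (Fin (m + 1)) F → R := fun g => f g - f (rep a) * ev ω R a g
    obtain ⟨b, hb, hb'⟩ := ih (fun x hx y hy hlt =>
        (Finset.mem_insert.mp (hup x (Finset.mem_insert_of_mem hx) y hy hlt)).resolve_left
          fun h => absurd hlt (not_lt.mpr (h ▸ hmin x hx))) f'
      (fun g p hp => by simp only [f', hf g p hp, ev_invariant ω a haT g p hp])
      (fun x hx hxs => by
        by_cases hxa : x = a
        · subst hxa; simp [f', ev_self]
        · have hev : ev ω R a (rep x) = 0 := by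
            by_contra hne
            exact hxs ((Finset.mem_insert.mp (hup a (Finset.mem_insert_self a s) x hx
              (lex_of_ev_ne ω hne hxa))).resolve_left hxa)
          simp only [f', hev, mul_zero, sub_zero]
          exact hzero x hx (by simp [hxa, hxs]))
      ((Finset.subset_insert a s).trans hsub)
    refine ⟨fun x => b x + (if x = a then f (rep a) else 0), fun x hx => ?_, fun g => ?_⟩
    · simp only [hb x hx, zero_add]
      rw [if_neg]
      rintro rfl
      exact hx haT
    · have := hb' g
      simp only [f'] at this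
      simp [add_mul, Finset.sum_add_distrib, ite_mul, ← this]

theorem exact (c : ℕ) (f : Cochain F R (m := m) r (c + 1)) (hf : IsInduced ω f)
    (hd : delta c f = 0) :
    ∃ g : Cochain F R (m := m) r (c + 2), IsInduced ω g ∧ delta (c + 1) g = f := by
  classical
  haveI : Fintype (Om F m) := Fintype.ofFinite _
  have hcoef : ∀ T : Finset (Fin r), ∃ a : Om F m → R, (∀ x, ¬ T ⊆ letters ω x → a x = 0) ∧
      ∀ h : T.card = c + 1, ∀ g, f ⟨T, h⟩ g = ∑ x, a x * ev ω R x g := by
    intro T
    by_cases h : T.card = c + 1
    · obtain ⟨a, ha, ha'⟩ := exists_coeff ω T (f ⟨T, h⟩) (fun g p hp => hf ⟨T, h⟩ g p hp)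
      exact ⟨a, ha, fun _ => ha'⟩
    · exact ⟨0, fun _ _ => rfl, fun h' => absurd h' h⟩
  choose a ha hfa using hcoef
  have hzero : ∀ T, T.card = c → ∀ x,
      ∑ i : Fin r, (if i ∉ T then (sgn T i : R) * a (insert i T) x else 0) = 0 := by
    intro T hT
    refine linearIndependent_ev ω _ fun g => ?_
    have h0 : delta c f ⟨T, hT⟩ g = 0 := by rw [hd]; rfl
    refine Eq.trans ?_ h0
    unfold delta
    simp only [Finset.sum_mul]
    rw [Finset.sum_comm]
    refine Finset.sum_congr rfl fun i _ => ?_
    by_cases hi : i ∈ T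
    · simp [hi]
    · rw [dif_pos hi, hfa (insert i T) (by rw [Finset.card_insert_of_notMem hi, hT]) g,
        Finset.mul_sum]
      exact Finset.sum_congr rfl fun x _ => by rw [if_pos hi, mul_assoc]
  choose b hb hb' using fun x => simplex_exact (R := R) c (letters ω x) (fun T => a T x)
    (fun T _ h => ha T x h) (fun T hT => hzero T hT x)
  refine ⟨fun S g => ∑ x, b x S.1 * ev ω R x g, fun S g p hp => ?_, ?_⟩
  · refine Finset.sum_congr rfl fun x _ => ?_
    by_cases hS : S.1 ⊆ letters ω x
    · rw [ev_invariant ω x hS g p hp]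
    · rw [hb x S.1 S.2 hS, zero_mul, zero_mul]
  · funext T g
    rw [hfa T.1 T.2 g]
    unfold delta
    simp only [Finset.mul_sum]
    rw [Finset.sum_congr rfl (g := fun i : Fin r => ∑ x, (if i ∉ T.1 then
      (sgn T.1 i : R) * b x (insert i T.1) else 0) * ev ω R x g) fun i _ => ?_, Finset.sum_comm]
    · exact Finset.sum_congr rfl fun x _ => by rw [← Finset.sum_mul, hb' x T.1 T.2]
    · by_cases hi : i ∈ T.1
      · simp [hi]
      · rw [dif_pos hi]
        exact Finset.sum_congr rfl fun x _ => by rw [if_pos hi, mul_assoc]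

end Adapted

end Groth.Agent.Lib.ParComplex.Basic
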