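import Groth.Prelude.Def_W4c3dlvarstrshPar
import Mathlib.Data.Finset.Max
import Mathlib.Data.Fintype.Pigeonhole
import Mathlib.Data.Fintype.Units
import Mathlib.Data.Matrix.Basic
import Mathlib.LinearAlgebra.Matrix.Transvection
import Mathlib.Order.PiLex

/-!
Pivots of invertible matrices and sorted representatives of cosets of standard parabolic subgroups.
-/

set_option autoImplicit false

namespace Groth.Agent.Lib.ParComplex.Pivot

open Matrix W4c3dlvarstrsh

variable {F : Type*} [Field F] {m : ℕ}

/-- One plus the largest index of a nonzero entry, and `0` for the zero vector. -/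
noncomputable def pv (v : Fin (m + 1) → F) : ℕ := by
  classical exact (Finset.univ.filter fun i => v i ≠ 0).sup fun i => i.val + 1

theorem pv_le_iff (v : Fin (m + 1) → F) (t : ℕ) :
    pv v ≤ t ↔ ∀ i : Fin (m + 1), t ≤ i.val → v i = 0 := by
  classical
  simp only [pv, Finset.sup_le_iff, Finset.mem_filter, Finset.mem_univ, true_and]
  constructor
  · intro h i hi
    by_contra hne
    have := h i hne
    omega
  · intro h i hne
    by_contra hlt
    exact hne (h i (by omega))

theorem apply_ne_zero_of_pv_eq {v : Fin (m + 1) → F} {i : Fin (m + 1)} (h : pv v = i.val + 1) :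
    v i ≠ 0 := by
  intro h0
  have : pv v ≤ i.val := (pv_le_iff v _).mpr fun j hj => by
    rcases Nat.lt_or_eq_of_le hj with hlt | heq
    · exact (pv_le_iff v _).mp le_rfl j (by omega)
    · rwa [← Fin.ext heq]
  omega

theorem exists_pv_eq {v : Fin (m + 1) → F} (hv : v ≠ 0) : ∃ i : Fin (m + 1), pv v = i.val + 1 := by
  classical
  have hne : (Finset.univ.filter fun i => v i ≠ 0).Nonempty := by
    obtain ⟨i, hi⟩ := Function.ne_iff.mp hv
    exact ⟨i, by simpa using hi⟩
  obtain ⟨i, -, hi⟩ := Finset.exists_mem_eq_sup _ hne fun i => i.val + 1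
  exact ⟨i, hi⟩

/-- The pivots of the columns of a matrix. -/
noncomputable def W (g : GL (Fin (m + 1)) F) (j : Fin (m + 1)) : ℕ :=
  pv fun i => (g : Matrix (Fin (m + 1)) (Fin (m + 1)) F) i j

/-- A matrix whose columns have pairwise distinct pivots. -/
def Reduced (g : GL (Fin (m + 1)) F) : Prop := Function.Injective (W g)

theorem col_ne_zero (g : GL (Fin (m + 1)) F) (j : Fin (m + 1)) :
    (fun i => (g : Matrix (Fin (m + 1)) (Fin (m + 1)) F) i j) ≠ 0 := fun h =>
  (Matrix.isUnits_det_units g).ne_zero (Matrix.det_eq_zero_of_column_eq_zero j fun i => congrFun h i)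

theorem pv_combination {g : GL (Fin (m + 1)) F} (hg : Reduced g) (c : Fin (m + 1) → F)
    (hc : c ≠ 0) :
    ∃ i, c i ≠ 0 ∧
      pv (fun l => ∑ k, (g : Matrix (Fin (m + 1)) (Fin (m + 1)) F) l k * c k) = W g i ∧
      ∀ k, c k ≠ 0 → W g k ≤ W g i := by
  classical
  obtain ⟨i₀, hi₀⟩ := Function.ne_iff.mp hc
  obtain ⟨i, hi, hmax⟩ := (Finset.univ.filter fun k => c k ≠ 0).exists_max_image (W g)
    ⟨i₀, by simpa using hi₀⟩
  simp only [Finset.mem_filter, Finset.mem_univ, true_and] at hi hmax
  refine ⟨i, hi, le_antisymm ?_ ?_, hmax⟩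
  · rw [pv_le_iff]
    intro l hl
    refine Finset.sum_eq_zero fun k _ => ?_
    by_cases hk : c k = 0
    · rw [hk, mul_zero]
    · have : (g : Matrix (Fin (m + 1)) (Fin (m + 1)) F) l k = 0 :=
        (pv_le_iff (fun i => (g : Matrix (Fin (m + 1)) (Fin (m + 1)) F) i k) (W g k)).mp le_rfl l
          ((hmax k hk).trans hl)
      rw [this, zero_mul]
  · obtain ⟨l, hl⟩ := exists_pv_eq (col_ne_zero g i)
    by_contra hlt
    have hz : ∑ k, (g : Matrix (Fin (m + 1)) (Fin (m + 1)) F) l k * c k = 0 :=
      (pv_le_iff (fun l => ∑ k, (g : Matrix (Fin (m + 1)) (Fin (m + 1)) F) l k * c k) _).mp le_rfl l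
        (by change pv (fun i_1 => (g : Matrix (Fin (m + 1)) (Fin (m + 1)) F) i_1 i) = _ at hl
            unfold W at hlt
            omega)
    rw [Finset.sum_eq_single i] at hz
    · exact mul_ne_zero (apply_ne_zero_of_pv_eq hl) hi hz
    · intro k _ hki
      by_cases hk : c k = 0
      · rw [hk, mul_zero]
      · have hlt' : W g k < W g i := lt_of_le_of_ne (hmax k hk) fun h => hki (hg h)
        have : (g : Matrix (Fin (m + 1)) (Fin (m + 1)) F) l k = 0 :=
          (pv_le_iff (fun i => (g : Matrix (Fin (m + 1)) (Fin (m + 1)) F) i k) (W g k)).mp le_rfl l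
            (by unfold W at hlt' ⊢; omega)
        rw [this, zero_mul]
    · intro h; exact absurd (Finset.mem_univ _) h

theorem W_mul {g : GL (Fin (m + 1)) F} (hg : Reduced g) (p : GL (Fin (m + 1)) F) {β : Fin (m + 1) → ℕ}
    (hp : (p : Matrix (Fin (m + 1)) (Fin (m + 1)) F).BlockTriangular β) (j : Fin (m + 1)) :
    ∃ i, β i ≤ β j ∧ W (g * p) j = W g i ∧
      ∀ k, (p : Matrix (Fin (m + 1)) (Fin (m + 1)) F) k j ≠ 0 → W g k ≤ W g i := by
  obtain ⟨i, hi, hpv, hmax⟩ := pv_combination hg
    (fun k => (p : Matrix (Fin (m + 1)) (Fin (m + 1)) F) k j) (col_ne_zero p j)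
  refine ⟨i, not_lt.mp fun h => hi (hp h), ?_, hmax⟩
  rw [← hpv]
  simp only [W, Units.val_mul, Matrix.mul_apply]

theorem exists_same_block {g : GL (Fin (m + 1)) F} (hg : Reduced g) (p : GL (Fin (m + 1)) F)
    {β : Fin (m + 1) → ℕ} (hp : (p : Matrix (Fin (m + 1)) (Fin (m + 1)) F).BlockTriangular β)
    (hgp : Reduced (g * p)) (j : Fin (m + 1)) :
    (∃ i, β i = β j ∧ W (g * p) j = W g i) ∧ ∃ i, β i = β j ∧ W g j = W (g * p) i := by
  classical
  have hset : ∀ t, (Finset.univ.filter fun k => β k ≤ t).image (W (g * p)) =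
      (Finset.univ.filter fun k => β k ≤ t).image (W g) := by
    intro t
    refine Finset.eq_of_subset_of_card_le (fun x hx => ?_) ?_
    · simp only [Finset.mem_image, Finset.mem_filter, Finset.mem_univ, true_and] at hx ⊢
      obtain ⟨k, hk, rfl⟩ := hx
      obtain ⟨i, hi, h, -⟩ := W_mul hg p hp k
      exact ⟨i, hi.trans hk, h.symm⟩
    · rw [Finset.card_image_of_injective _ hgp, Finset.card_image_of_injective _ hg]
  have hmem : ∀ t k, β k ≤ t → (∃ i, β i ≤ t ∧ W g i = W (g * p) k) ∧
      ∃ i, β i ≤ t ∧ W (g * p) i = W g k := by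
    intro t k hk
    constructor
    · have : W (g * p) k ∈ (Finset.univ.filter fun k => β k ≤ t).image (W g) :=
        hset t ▸ Finset.mem_image_of_mem _ (by simpa using hk)
      simpa using this
    · have : W g k ∈ (Finset.univ.filter fun k => β k ≤ t).image (W (g * p)) :=
        (hset t).symm ▸ Finset.mem_image_of_mem _ (by simpa using hk)
      simpa using this
  constructor
  · obtain ⟨i, hi, h⟩ := (hmem (β j) j le_rfl).1
    refine ⟨i, le_antisymm hi ?_, h.symm⟩
    obtain ⟨i', hi', h'⟩ := (hmem (β i) i le_rfl).2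
    rwa [hgp (h'.trans h)] at hi'
  · obtain ⟨i, hi, h⟩ := (hmem (β j) j le_rfl).2
    refine ⟨i, le_antisymm hi ?_, h.symm⟩
    obtain ⟨i', hi', h'⟩ := (hmem (β i) i le_rfl).1
    rwa [hg (h'.trans h)] at hi'

theorem blockOf_mono (J : Finset (Fin m)) : Monotone (blockOf J) := by
  intro i i' h
  refine Finset.card_le_card fun k => ?_
  simp only [Finset.mem_filter, Finset.mem_univ, true_and]
  rintro ⟨h1, h2⟩
  exact ⟨lt_of_lt_of_le h1 h, h2⟩

theorem mem_of_blockOf_le {J : Finset (Fin m)} {i i' : Fin (m + 1)}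
    (h : blockOf J i' ≤ blockOf J i) {k : Fin m} (h1 : i.val ≤ k.val) (h2 : k.val < i'.val) :
    k ∈ J := by
  by_contra hk
  have hlt : blockOf J i < blockOf J i' := by
    refine Finset.card_lt_card ?_
    rw [Finset.ssubset_iff_of_subset fun l => ?_]
    · refine ⟨k, by simp [h2, hk], ?_⟩
      simp only [Finset.mem_filter, Finset.mem_univ, true_and, not_and]
      intro hh
      omega
    · simp only [Finset.mem_filter, Finset.mem_univ, true_and]
      rintro ⟨hl, hl'⟩
      exact ⟨by omega, hl'⟩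
  omega

theorem blockOf_succ {J : Finset (Fin m)} {k : Fin m} (hk : k ∈ J) :
    blockOf J k.succ = blockOf J k.castSucc := by
  unfold blockOf
  congr 1
  ext l
  simp only [Finset.mem_filter, Finset.mem_univ, true_and, Fin.val_succ, Fin.val_castSucc]
  constructor
  · rintro ⟨h1, h2⟩
    refine ⟨?_, h2⟩
    by_contra h3
    exact h2 (Fin.ext (show l.val = k.val by omega) ▸ hk)
  · rintro ⟨h1, h2⟩
    exact ⟨by omega, h2⟩

theorem blockOf_empty_strictMono : StrictMono (blockOf (∅ : Finset (Fin m))) := by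
  intro i j hij
  by_contra h
  exact Finset.notMem_empty _ (mem_of_blockOf_le (not_lt.mp h) (k := ⟨i.val, by omega⟩) le_rfl hij)

theorem mem_parabolic (J : Finset (Fin m)) (g : GL (Fin (m + 1)) F) :
    g ∈ parabolic F J ↔ (g : Matrix (Fin (m + 1)) (Fin (m + 1)) F).BlockTriangular (blockOf J) :=
  Iff.rfl

theorem parabolic_mono {J K : Finset (Fin m)} (h : J ⊆ K) : parabolic F J ≤ parabolic F K := by
  intro g hg i j hij
  refine hg ?_
  have h1 : j < i := lt_of_not_ge fun hle => absurd (blockOf_mono K hle) (not_le.mpr hij)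
  obtain ⟨k, hk1, hk2, hk3⟩ : ∃ k : Fin m, j.val ≤ k.val ∧ k.val < i.val ∧ k ∉ K := by
    by_contra hh
    push Not at hh
    have hle : blockOf K i ≤ blockOf K j := Finset.card_le_card fun l => by
      simp only [Finset.mem_filter, Finset.mem_univ, true_and]
      rintro ⟨hl1, hl2⟩
      refine ⟨?_, hl2⟩
      by_contra hl3
      exact hl2 (hh l (by omega) hl1)
    omega
  by_contra hle
  exact hk3 (h (mem_of_blockOf_le (not_lt.mp hle) hk1 hk2))

/-- The pivots increase along every simple reflection in `J`. -/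
def Sorted (J : Finset (Fin m)) (g : GL (Fin (m + 1)) F) : Prop :=
  ∀ k ∈ J, W g k.castSucc < W g k.succ

theorem sorted_lt {J : Finset (Fin m)} {g : GL (Fin (m + 1)) F} (hs : Sorted J g) :
    ∀ i i' : Fin (m + 1), i < i' → blockOf J i = blockOf J i' → W g i < W g i' := by
  intro i i' hlt hb
  have hk : (i'.val - 1) < m := by
    have : i.val < i'.val := hlt
    omega
  induction h : i'.val using Nat.strong_induction_on generalizing i' with
  | _ n ih =>
    subst h
    have hii : i.val < i'.val := hlt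
    let k : Fin m := ⟨i'.val - 1, hk⟩
    have hkJ : k ∈ J := mem_of_blockOf_le hb.ge (show i.val ≤ i'.val - 1 by omega)
      (show i'.val - 1 < i'.val by omega)
    have h1 := hs k hkJ
    have e : k.succ = i' := Fin.ext (show i'.val - 1 + 1 = i'.val by omega)
    rw [e] at h1
    rcases Nat.lt_or_eq_of_le (show i.val ≤ k.castSucc.val by
      show i.val ≤ i'.val - 1; omega) with h2 | h2
    · refine lt_trans (ih k.castSucc.val (by show i'.val - 1 < i'.val; omega) k.castSucc h2 ?_
        (by show i'.val - 1 - 1 < m; omega) rfl) h1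
      rw [hb, ← e, blockOf_succ hkJ]
    · rwa [← Fin.ext h2] at h1

theorem W_eq_of_sorted {g : GL (Fin (m + 1)) F} (hg : Reduced g) (p : GL (Fin (m + 1)) F)
    (hgp : Reduced (g * p)) {J : Finset (Fin m)} (hp : p ∈ parabolic F J) (hs : Sorted J g)
    (hs' : Sorted J (g * p)) : W (g * p) = W g := by
  funext j
  induction h : j.val using Nat.strong_induction_on generalizing j with
  | _ n ih =>
    subst h
    obtain ⟨⟨i, hi, e⟩, ⟨i', hi', e'⟩⟩ := exists_same_block hg p hp hgp j
    have h1 : j ≤ i := by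
      by_contra h
      have h' := lt_of_not_ge h
      exact h'.ne (hgp ((ih i.val h' i rfl).trans e.symm))
    have h2 : j ≤ i' := by
      by_contra h
      have h' := lt_of_not_ge h
      exact h'.ne (hg ((ih i'.val h' i' rfl).symm.trans e'.symm))
    refine le_antisymm ?_ ?_
    · rcases h2.lt_or_eq with h | h
      · rw [e']
        exact (sorted_lt hs' j i' h hi'.symm).le
      · rw [e', h]
    · rcases h1.lt_or_eq with h | h
      · rw [e]
        exact (sorted_lt hs j i h hi.symm).le
      · rw [e, h]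

theorem mem_borel_of_sorted {g : GL (Fin (m + 1)) F} (hg : Reduced g) (p : GL (Fin (m + 1)) F)
    (hgp : Reduced (g * p)) {J : Finset (Fin m)} (hp : p ∈ parabolic F J) (hs : Sorted J g)
    (hs' : Sorted J (g * p)) : p ∈ parabolic F (∅ : Finset (Fin m)) := by
  intro k j hkj
  have hlt : j < k := blockOf_empty_strictMono.lt_iff_lt.mp hkj
  by_contra hne
  obtain ⟨i, -, e, hmax⟩ := W_mul hg p hp j
  have h1 := hmax k hne
  rw [← e, W_eq_of_sorted hg p hgp hp hs hs'] at h1
  have hb : blockOf J j = blockOf J k :=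
    le_antisymm (blockOf_mono J hlt.le) (not_lt.mp fun h => hne (hp h))
  exact absurd (sorted_lt hs j k hlt hb) (not_lt.mpr h1)

theorem lex_lt {g : GL (Fin (m + 1)) F} (hg : Reduced g) (p : GL (Fin (m + 1)) F)
    (hgp : Reduced (g * p)) {J : Finset (Fin m)} (hp : p ∈ parabolic F J) (hs : Sorted J g)
    (hne : W (g * p) ≠ W g) : toLex (W g) < toLex (W (g * p)) := by
  classical
  obtain ⟨j₀, hj₀⟩ := Function.ne_iff.mp hne
  let S := Finset.univ.filter fun j => W (g * p) j ≠ W g j
  obtain ⟨j, hj, hmin⟩ := S.exists_min_image id ⟨j₀, by simpa [S] using hj₀⟩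
  simp only [S, Finset.mem_filter, Finset.mem_univ, true_and, id_eq] at hj hmin
  have heq : ∀ i < j, W (g * p) i = W g i := fun i hi => by
    by_contra h
    exact absurd (hmin i h) (not_le.mpr hi)
  obtain ⟨⟨i, hi, e⟩, -⟩ := exists_same_block hg p hp hgp j
  have h1 : j ≤ i := by
    by_contra h
    exact (lt_of_not_ge h).ne (hgp ((heq i (lt_of_not_ge h)).trans e.symm))
  have h2 : j ≠ i := fun h => hj (h ▸ e)
  refine ⟨j, fun i hi => (heq i hi).symm, ?_⟩
  show W g j < W (g * p) j
  rw [e]
  exact sorted_lt hs j i (lt_of_le_of_ne h1 h2) hi.symm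

theorem exists_reduced [Fintype F] (g : GL (Fin (m + 1)) F) :
    ∃ b ∈ parabolic F (∅ : Finset (Fin m)), Reduced (g * b) := by
  classical
  obtain ⟨b, hb, hmin⟩ :=
    (Finset.univ.filter fun b : GL (Fin (m + 1)) F => b ∈ parabolic F (∅ : Finset (Fin m))).exists_min_image
      (fun b => ∑ j, W (g * b) j) ⟨1, by simp [one_mem]⟩
  simp only [Finset.mem_filter, Finset.mem_univ, true_and] at hb hmin
  refine ⟨b, hb, fun i j hij => ?_⟩
  by_contra hne
  wlog hlt : i < j generalizing i j
  · exact this j i hij.symm (Ne.symm hne) (lt_of_le_of_ne (not_lt.mp hlt) (Ne.symm hne))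
  obtain ⟨l, hl⟩ := exists_pv_eq (col_ne_zero (g * b) i)
  change W (g * b) i = _ at hl
  let M : Matrix (Fin (m + 1)) (Fin (m + 1)) F := ((g * b : GL (Fin (m + 1)) F) : Matrix _ _ F)
  let c : F := -(M l j / M l i)
  let T : GL (Fin (m + 1)) F := Matrix.GeneralLinearGroup.mkOfDetNeZero (Matrix.transvection i j c)
    (by rw [Matrix.det_transvection_of_ne i j hne]; exact one_ne_zero)
  have hT : T ∈ parabolic F (∅ : Finset (Fin m)) :=
    Matrix.blockTriangular_transvection (blockOf_empty_strictMono hlt).le c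
  have hcol : ∀ a k, ((g * (b * T) : GL (Fin (m + 1)) F) : Matrix _ _ F) a k =
      if k = j then M a j + c * M a i else M a k := by
    intro a k
    rw [← mul_assoc]
    show (M * Matrix.transvection i j c) a k = _
    by_cases hk : k = j
    · subst hk
      rw [if_pos rfl, Matrix.mul_transvection_apply_same]
    · rw [if_neg hk, Matrix.mul_transvection_apply_of_ne _ _ _ _ hk]
  have hWk : ∀ k, k ≠ j → W (g * (b * T)) k = W (g * b) k := fun k hk => by
    simp only [W, hcol, if_neg hk]
    rfl
  have hWj : W (g * (b * T)) j < W (g * b) j := by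
    have hli : M l i ≠ 0 := apply_ne_zero_of_pv_eq (v := fun a => M a i) hl
    have hle : W (g * (b * T)) j ≤ l.val := by
      simp only [W, hcol, if_true]
      rw [pv_le_iff]
      intro a ha
      rcases Nat.lt_or_eq_of_le ha with h | h
      · have h1 : M a i = 0 := (pv_le_iff (fun a => M a i) _).mp le_rfl a
          (by change W (g * b) i ≤ _; omega)
        have h2 : M a j = 0 := (pv_le_iff (fun a => M a j) _).mp le_rfl a
          (by change W (g * b) j ≤ _; omega)
        rw [h1, h2, mul_zero, add_zero]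
      · rw [← Fin.ext h]
        simp only [c, neg_mul, div_mul_cancel₀ _ hli, add_neg_cancel]
    omega
  have hlt' : ∑ k, W (g * (b * T)) k < ∑ k, W (g * b) k :=
    Finset.sum_lt_sum (fun k _ => by
      by_cases hk : k = j
      · exact hk ▸ hWj.le
      · exact (hWk k hk).le) ⟨j, Finset.mem_univ j, hWj⟩
  exact absurd (hmin (b * T) (mul_mem hb hT)) (not_le.mpr hlt')

theorem exists_sorted [Fintype F] (g : GL (Fin (m + 1)) F) (J : Finset (Fin m)) :
    ∃ p ∈ parabolic F J, Reduced (g * p) ∧ Sorted J (g * p) := by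
  classical
  let S := Finset.univ.filter fun p : GL (Fin (m + 1)) F => p ∈ parabolic F J ∧ Reduced (g * p)
  have hS : S.Nonempty := by
    obtain ⟨b, hb, hr⟩ := exists_reduced g
    exact ⟨b, Finset.mem_filter.mpr ⟨Finset.mem_univ _, parabolic_mono (Finset.empty_subset J) hb, hr⟩⟩
  obtain ⟨p, hp, hmin⟩ := S.exists_min_image (fun p => toLex (W (g * p))) hS
  simp only [S, Finset.mem_filter, Finset.mem_univ, true_and] at hp hmin
  refine ⟨p, hp.1, hp.2, fun k hk => ?_⟩
  by_contra hle
  have hne : k.castSucc ≠ k.succ := (Fin.castSucc_lt_succ).ne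
  have hgt : W (g * p) k.succ < W (g * p) k.castSucc :=
    lt_of_le_of_ne (not_lt.mp hle) fun h => hne (hp.2 h.symm)
  let s := Equiv.swap k.castSucc k.succ
  let M : Matrix (Fin (m + 1)) (Fin (m + 1)) F := ((g * p : GL (Fin (m + 1)) F) : Matrix _ _ F)
  let P : Matrix (Fin (m + 1)) (Fin (m + 1)) F := (1 : Matrix _ _ F).submatrix id s
  have hdet : P.det ≠ 0 := by
    simp [P, Matrix.det_permute', s, Equiv.Perm.sign_swap hne]
  let T : GL (Fin (m + 1)) F := Matrix.GeneralLinearGroup.mkOfDetNeZero P hdet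
  have hT : T ∈ parabolic F J := by
    intro a a' h
    show P a a' = 0
    have hb : blockOf J (s a) = blockOf J a := by
      simp only [s, Equiv.swap_apply_def]
      split_ifs with h1 h2
      · rw [h1, blockOf_succ hk]
      · rw [h2, blockOf_succ hk]
      · rfl
    simp only [P, Matrix.submatrix_apply, id_eq, Matrix.one_apply]
    rw [if_neg]
    intro hh
    have : s a = a' := by
      rw [hh]
      exact Equiv.swap_apply_self _ _ a'
    rw [← this, hb] at h
    exact lt_irrefl _ h
  have hW : W (g * (p * T)) = W (g * p) ∘ s := by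
    funext a
    have hcol : ∀ x, ((g * (p * T) : GL (Fin (m + 1)) F) : Matrix _ _ F) x a = M x (s a) := by
      intro x
      rw [← mul_assoc]
      show (M * P) x a = _
      simp [P, Matrix.mul_apply, Matrix.submatrix_apply, Matrix.one_apply]
    simp only [W, Function.comp_apply, hcol]
    rfl
  have hlex : toLex (W (g * (p * T))) < toLex (W (g * p)) := by
    refine ⟨k.castSucc, fun a ha => ?_, ?_⟩
    · show W (g * (p * T)) a = W (g * p) a
      rw [hW, Function.comp_apply]
      simp only [s]
      rw [Equiv.swap_apply_of_ne_of_ne ha.ne (ha.trans Fin.castSucc_lt_succ).ne]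
    · show W (g * (p * T)) k.castSucc < W (g * p) k.castSucc
      rw [hW, Function.comp_apply]
      simpa [s] using hgt
  refine absurd (hmin (p * T) ⟨mul_mem hp.1 hT, ?_⟩) (not_le.mpr hlex)
  show Function.Injective (W (g * (p * T)))
  rw [hW]
  exact hp.2.comp s.injective

end Groth.Agent.Lib.ParComplex.Pivot
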